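import Mathlib

/-!
# An element transcendental modulo finitely many nonmaximal primes
-/

set_option autoImplicit false

universe u v

open Polynomial

namespace Groth.Agent.AssTower

variable {k : Type u} [Field k] {R : Type v} [CommRing R] [Algebra k R]

theorem exists_transcendental_quot (p : Ideal R) [p.IsPrime] (hp : ¬ p.IsMaximal) :
    ∃ h : R, Transcendental k (Ideal.Quotient.mk p h) := by
  by_contra hc
  push_neg at hc
  refine hp (Ideal.Quotient.maximal_of_isField p ?_)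
  haveI : Algebra.IsAlgebraic k (R ⧸ p) := ⟨fun z => by
    obtain ⟨h, rfl⟩ := Ideal.Quotient.mk_surjective z
    exact not_not.1 (hc h)⟩
  exact isField_of_isIntegral_of_isField' (Field.toIsField k)

theorem transcendental_mul_right {S : Type v} [CommRing S] [IsDomain S] [Algebra k S] {e h : S}
    (he : e ≠ 0) (hei : ¬ Transcendental k e) (hh : Transcendental k h) : Transcendental k (e * h) := by
  intro halg
  rw [Transcendental, not_not] at hei
  have hint : IsField (integralClosure k S) := isField_of_isIntegral_of_isField' (Field.toIsField k)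
  obtain ⟨e', he'⟩ := hint.mul_inv_cancel
    (show (⟨e, hei.isIntegral⟩ : integralClosure k S) ≠ 0 from fun h0 => he (congrArg Subtype.val h0))
  refine hh ?_
  have h1 : e * e'.1 = 1 := congrArg Subtype.val he'
  have h2 : IsIntegral k (e'.1 * (e * h)) := e'.2.mul halg.isIntegral
  rw [← mul_assoc, mul_comm e'.1, h1, one_mul] at h2
  exact h2.isAlgebraic

theorem exists_transcendental_avoid (S : Finset (Ideal R)) (hS : ∀ p ∈ S, p.IsPrime ∧ ¬ p.IsMaximal) :
    ∃ g : R, ∀ p ∈ S, ∀ q : k[X], q ≠ 0 → aeval g q ∉ p := by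
  classical
  let M := S.filter fun p => ∀ p' ∈ S, p ≤ p' → p' = p
  have hM : ∀ p ∈ M, ∃ gp : R, Transcendental k (Ideal.Quotient.mk p gp) ∧ ∀ p' ∈ M, p' ≠ p → gp ∈ p' := by
    intro p hp
    obtain ⟨hpS, hmax⟩ := Finset.mem_filter.1 hp
    haveI := (hS p hpS).1
    obtain ⟨h, hh⟩ := exists_transcendental_quot (k := k) p (hS p hpS).2
    have hne : ∀ p' ∈ M.erase p, ∃ e ∈ p', e ∉ p := fun p' hp' => by
      by_contra hc
      push_neg at hc
      obtain ⟨hne, hp'M⟩ := Finset.mem_erase.1 hp'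
      obtain ⟨hp'S, hmax'⟩ := Finset.mem_filter.1 hp'M
      exact hne (hmax' p hpS hc).symm
    choose! e he1 he2 using hne
    let ee := ∏ p' ∈ M.erase p, e p'
    have hee : ee ∉ p := fun hm => by
      obtain ⟨p', hp', hm'⟩ := ((hS p hpS).1.prod_mem_iff).1 hm
      exact he2 p' hp' hm'
    have hmem : ∀ p' ∈ M, p' ≠ p → ee ∈ p' := fun p' hp' hne => by
      have hin : p' ∈ M.erase p := Finset.mem_erase.2 ⟨hne, hp'⟩
      obtain ⟨c, hc⟩ := Finset.dvd_prod_of_mem e hin
      show (∏ x ∈ M.erase p, e x) ∈ p'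
      rw [hc]
      exact Ideal.mul_mem_right _ _ (he1 p' hin)
    by_cases ht : Transcendental k (Ideal.Quotient.mk p ee)
    · exact ⟨ee, ht, hmem⟩
    · refine ⟨ee * h, ?_, fun p' hp' hne => Ideal.mul_mem_right _ _ (hmem p' hp' hne)⟩
      rw [map_mul]
      exact transcendental_mul_right (fun h0 => hee (Ideal.Quotient.eq_zero_iff_mem.1 h0)) ht hh
  choose! gp hgp1 hgp2 using hM
  refine ⟨∑ p ∈ M, gp p, fun p hp q hq hmem => ?_⟩
  obtain ⟨p', hp', hmax⟩ := (S.filter fun p' => p ≤ p').exists_maximal ⟨p, Finset.mem_filter.2 ⟨hp, le_rfl⟩⟩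
  obtain ⟨hp'S, hle⟩ := Finset.mem_filter.1 hp'
  have hp'M : p' ∈ M := Finset.mem_filter.2 ⟨hp'S, fun p'' hp'' hle' =>
    le_antisymm (hmax (Finset.mem_filter.2 ⟨hp'', hle.trans hle'⟩) hle') hle'⟩
  haveI := (hS p' hp'S).1
  have h0 : Ideal.Quotient.mkₐ k p' (∑ x ∈ M, gp x) = Ideal.Quotient.mkₐ k p' (gp p') := by
    rw [map_sum]
    refine Finset.sum_eq_single_of_mem p' hp'M fun x hx hne => Ideal.Quotient.eq_zero_iff_mem.2 ?_
    exact hgp2 x hx p' hp'M (Ne.symm hne)
  refine hgp1 p' hp'M ⟨q, hq, ?_⟩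
  show aeval (Ideal.Quotient.mkₐ k p' (gp p')) q = 0
  rw [← h0, aeval_algHom_apply]
  exact Ideal.Quotient.eq_zero_iff_mem.2 (hle hmem)

end Groth.Agent.AssTower
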