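import Groth.Agent.AmpleEmb.Sections

/-!
# Embedding sections containing a prescribed affine locus and a prescribed ratio
-/

set_option autoImplicit false
set_option backward.isDefEq.respectTransparency false
set_option linter.style.haveILetI false

universe u

open CategoryTheory CategoryTheory.Limits AlgebraicGeometry TopologicalSpace Opposite
open Groth.Agent.DCohLib Groth.Agent.ParaFLib Groth.Agent.AmpleLib

noncomputable section

namespace Groth.Agent.AmpleEmb

variable {X : Scheme.{u}} {R : Type u} [CommRing R]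

theorem exists_emb_good {Z : Set X} {L : X.Modules} (h : CohB1.IsAmple L) (f : X ⟶ Spec (CommRingCat.of R)) [LocallyOfFiniteType f]
    (φ : R →+* Γ(X, ⊤)) (hφ : (Scheme.ΓSpecIso (CommRingCat.of R)).inv ≫ f.appTop = CommRingCat.ofHom φ)
    [Nonempty X] {m₀ : ℕ} (σ₀ : Coh.structureModule X ⟶ CohB1.tensorPow L (m₀ + 1))
    (haσ₀ : IsAffineOpen (CohB1.genLocus _ σ₀)) (hZσ₀ : Z ⊆ CohB1.genLocus _ σ₀)
    (good : ∀ V : X.Opens, Γ(X, V) → Prop)
    (hgood : ∀ V : X.Opens, Z ⊆ V → IsAffineOpen V → ∃ g, good V g)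
    (hcongr : ∀ (V V' : X.Opens) (e : V' ≤ V), V ≤ V' → ∀ g, good V g → good V' (X.presheaf.map (homOfLE e).op g)) :
    ∃ (E : Emb φ L) (i a : Fin (E.n + 1)), i ∈ E.G ∧ Z ⊆ CohB1.genLocus E.P (E.s i) ∧
      good (CohB1.genLocus E.P (E.s i)) (E.t i a) := by
  classical
  haveI := h.2.1
  haveI := quasiSeparatedSpace_of_isAmple h
  choose m' σ' hxσ' haσ' using h.2.2
  obtain ⟨T₀, hT₀⟩ := isCompact_univ.elim_finite_subcover
    (fun x : X => (CohB1.genLocus _ (σ' x) : Set X)) (fun x => (CohB1.genLocus _ (σ' x)).2)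
    (fun x _ => Set.mem_iUnion.2 ⟨x, hxσ' x⟩)
  let m : Option X → ℕ
    | none => m₀
    | some x => m' x
  let σ : ∀ y : Option X, Coh.structureModule X ⟶ CohB1.tensorPow L (m y + 1)
    | none => σ₀
    | some x => σ' x
  have haσ : ∀ y, IsAffineOpen (CohB1.genLocus _ (σ y))
    | none => haσ₀
    | some x => haσ' x
  let T : Finset (Option X) := insert none (T₀.image some)
  have hT : (Set.univ : Set X) ⊆ ⋃ y ∈ T, (CohB1.genLocus _ (σ y) : Set X) := fun z hz => by
    obtain ⟨x, hx, hzx⟩ := Set.mem_iUnion₂.1 (hT₀ hz)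
    exact Set.mem_iUnion₂.2 ⟨some x, Finset.mem_insert_of_mem (Finset.mem_image_of_mem _ hx), hzx⟩
  let D := ∏ x ∈ T, (m x + 1)
  have hD : 0 < D := Finset.prod_pos fun x _ => Nat.succ_pos _
  have hraise : ∀ x : T, ∃ s' : Coh.structureModule X ⟶ CohB1.tensorPow L D,
      CohB1.genLocus _ s' = CohB1.genLocus _ (σ x.1) := fun x =>
    exists_raise h.1 hD (Finset.dvd_prod_of_mem (fun x => m x + 1) x.2) (σ x.1)
  choose s hs using hraise
  let P := CohB1.tensorPow L D
  have hP : PicF.IsInvertible P := isInvertible_tensorPow h.1 D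
  let U : T → X.Opens := fun x => CohB1.genLocus P (s x)
  have hUa : ∀ x, IsAffineOpen (U x) := fun x => by
    rw [show U x = _ from hs x]
    exact haσ x.1
  -- generators
  have hgen : ∀ x : T, ∃ S : Finset Γ(X, U x),
      Subring.closure (Set.range (constV φ (U x)) ∪ ↑S) = ⊤ := by
    intro x
    have hft := HasRingHomProperty.appLE (P := @LocallyOfFiniteType) f inferInstance
      ⟨⊤, isAffineOpen_top _⟩ ⟨U x, hUa x⟩ le_top
    have hψ : (constV φ (U x)).FiniteType := by
      have hc := RingHom.finiteType_respectsIso.2 _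
        (Scheme.ΓSpecIso (CommRingCat.of R)).symm.commRingCatIsoToRingEquiv hft
      have he : constV φ (U x) = (f.appLE ⊤ (U x) le_top).hom.comp
          (Scheme.ΓSpecIso (CommRingCat.of R)).inv.hom := by
        rw [constV, show φ = ((Scheme.ΓSpecIso (CommRingCat.of R)).inv ≫ f.appTop).hom by rw [hφ]; rfl]
        rfl
      rw [he]
      exact hc
    algebraize [constV φ (U x)]
    obtain ⟨S, hS⟩ := (inferInstance : Algebra.FiniteType R Γ(X, U x)).out
    refine ⟨S, ?_⟩
    have := congrArg Subalgebra.toSubring hS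
    rw [Algebra.adjoin_eq_ring_closure, Algebra.top_toSubring] at this
    exact this
  choose S₁ hS₁ using hgen
  let x₀ : T := ⟨none, Finset.mem_insert_self _ _⟩
  have hZ₀ : Z ⊆ U x₀ := fun z hz => (hs x₀).ge (hZσ₀ hz)
  obtain ⟨g₀, hg₀⟩ := hgood (U x₀) hZ₀ (hUa x₀)
  let S : ∀ x : T, Finset Γ(X, U x) := fun x =>
    if hx : x = x₀ then insert (hx ▸ g₀) (S₁ x) else S₁ x
  have hS : ∀ x : T, Subring.closure (Set.range (constV φ (U x)) ∪ ↑(S x)) = ⊤ := fun x => by
    refine eq_top_iff.2 ((hS₁ x).ge.trans (Subring.closure_mono (Set.union_subset_union_right _ ?_)))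
    simp only [S]
    split
    · exact Finset.coe_subset.2 (Finset.subset_insert _ _)
    · exact subset_rfl
  have hg₀S : g₀ ∈ S x₀ := by
    simp only [S, dif_pos]
    exact Finset.mem_insert_self _ _
  let J := Σ x : T, (S x : Finset Γ(X, U x))
  choose k₀ hk₀ using fun j : J => exists_extend_ge hP (s j.1) j.2.1
  let K := Finset.univ.sup k₀
  choose ξ hξ using fun j : J => hk₀ j K (Finset.le_sup (Finset.mem_univ j))
  let Q := CohB1.tensorPow P (K + 1)
  have hQ : PicF.IsInvertible Q := isInvertible_tensorPow hP (K + 1)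
  let u : T ⊕ J → (Coh.structureModule X ⟶ Q) := Sum.elim (fun x => powS (s x) (K + 1))
    fun j => tensorS (secHom (CohB1.tensorPow P K) (ξ j)) (s j.1)
  have hlocT : ∀ x, CohB1.genLocus Q (u (Sum.inl x)) = U x := fun x => genLocus_powS hP (s x) K
  have hlocJ : ∀ j : J, CohB1.genLocus Q (u (Sum.inr j)) = X.basicOpen j.2.1 := fun j => by
    refine (genLocus_tensorS (isInvertible_tensorPow hP K) hP _ _).trans ?_
    refine genLocus_inf_eq_basicOpen _ (gen_powLoc (gen_genLocus hP (s j.1)) K) ?_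
    rw [sec_secHom]
    exact (hξ j).symm
  have haff : ∀ i, IsAffineOpen (CohB1.genLocus Q (u i)) := by
    rintro (x | j)
    · rw [hlocT]
      exact hUa x
    · rw [hlocJ]
      exact (hUa j.1).basicOpen _
  choose t ht using fun i a => ((gen_genLocus hQ (u i)) _ le_rfl).2 (resT (sec (u a)) (CohB1.genLocus Q (u i)))
  simp only [res_self] at ht
  haveI : Nonempty T := by
    obtain ⟨x, hx, -⟩ := Set.mem_iUnion₂.1 (hT (Set.mem_univ (Classical.arbitrary X)))
    exact ⟨⟨x, hx⟩⟩
  obtain ⟨n, ⟨ε⟩⟩ : ∃ n, Nonempty (Fin (n + 1) ≃ T ⊕ J) := by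
    refine ⟨Fintype.card (T ⊕ J) - 1, ⟨?_⟩⟩
    exact (finCongr (Nat.sub_add_cancel (Fintype.card_pos : 0 < Fintype.card (T ⊕ J)))).trans (Fintype.equivFin _).symm
  refine ⟨{ D := D * (K + 1), hD := Nat.mul_pos hD K.succ_pos, n := n, P := Q,
            iso := powMul L D (K + 1), inv := hQ, s := fun i => u (ε i), affine := fun i => haff _,
            t := fun i a => t (ε i) (ε a), ht := fun i a => ht _ _,
            G := {i | ∃ x, ε i = Sum.inl x}, cover := fun y => ?_, gen := ?_ },
    ε.symm (Sum.inl x₀), ε.symm (Sum.inr ⟨x₀, g₀, hg₀S⟩), ⟨x₀, ε.apply_symm_apply _⟩, ?_, ?_⟩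
  · obtain ⟨x, hx, hyx⟩ := Set.mem_iUnion₂.1 (hT (Set.mem_univ y))
    refine ⟨ε.symm (Sum.inl ⟨x, hx⟩), ⟨⟨x, hx⟩, ε.apply_symm_apply _⟩, ?_⟩
    rw [ε.apply_symm_apply, hlocT]
    exact (hs ⟨x, hx⟩).ge hyx
  · rintro i ⟨x, hx⟩
    suffices h' : Function.Surjective (MvPolynomial.eval₂Hom (constV φ (CohB1.genLocus Q (u (Sum.inl x))))
        (fun a => t (Sum.inl x) (ε a))) by
      rw [hx]
      exact h'
    rw [← RingHom.range_eq_top, eq_top_iff]
    let V := CohB1.genLocus Q (u (Sum.inl x))
    have hVU : U x = V := (hlocT x).symm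
    intro y _
    have key : ∀ z : Γ(X, U x), X.presheaf.map (homOfLE hVU.ge).op z ∈
        (MvPolynomial.eval₂Hom (constV φ V) (fun a => t (Sum.inl x) (ε a))).range := by
      intro z
      have hz : z ∈ Subring.closure (Set.range (constV φ (U x)) ∪ ↑(S x)) := by
        rw [hS x]
        trivial
      induction hz using Subring.closure_induction with
      | zero => rw [map_zero]; exact zero_mem _
      | one => rw [map_one]; exact one_mem _
      | add a b _ _ ha hb => rw [map_add]; exact add_mem ha hb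
      | neg a _ ha => rw [map_neg]; exact neg_mem ha
      | mul a b _ _ ha hb => rw [map_mul]; exact mul_mem ha hb
      | mem a ha =>
        rcases ha with ⟨r, rfl⟩ | ha
        · exact ⟨MvPolynomial.C r, by rw [MvPolynomial.eval₂Hom_C, res_constV]⟩
        · let j : J := ⟨x, a, ha⟩
          refine ⟨MvPolynomial.X (ε.symm (Sum.inr j)), ?_⟩
          rw [MvPolynomial.eval₂Hom_X', ε.apply_symm_apply]
          refine ((gen_genLocus hQ (u (Sum.inl x))) V le_rfl).1 ?_
          simp only [resT, res_res]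
          refine (ht (Sum.inl x) (Sum.inr j)).trans ?_
          show resT (sec (tensorS (secHom (CohB1.tensorPow P K) (ξ j)) (s x))) V =
            X.presheaf.map (homOfLE hVU.ge).op a • resT (sec (powS (s x) (K + 1))) V
          rw [sec_powS, resT, resT, powLoc_res, tensorS]
          have e0 : sec (secHom (tmod (CohB1.tensorPow P K) P)
              (pairS (CohB1.tensorPow P K) P (sec (secHom (CohB1.tensorPow P K) (ξ j))) (sec (s x)))) =
              mulPow (sec (s x)) (ξ j) 1 := by
            rw [sec_secHom, sec_secHom]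
            rfl
          refine (congrArg (fun z => (CohB1.tensorPow P (K + 1)).presheaf.map
            (homOfLE (le_top : V ≤ ⊤)).op z) e0).trans ?_
          rw [mulPow_res]
          have e1 := congrArg ((CohB1.tensorPow P K).presheaf.map (homOfLE hVU.ge).op) (hξ j)
          rw [(CohB1.tensorPow P K).map_smul, powLoc_res, resT, resT, res_res, res_res] at e1
          rw [e1, mulPow_smul, mulPow_powLoc]
    have e : X.presheaf.map (homOfLE hVU.ge).op (X.presheaf.map (homOfLE hVU.le).op y) = y := by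
      rw [← ConcreteCategory.comp_apply, ← Functor.map_comp]
      exact ConcreteCategory.congr_hom (X.presheaf.map_id _) y
    exact e ▸ key (X.presheaf.map (homOfLE hVU.le).op y)
  · show Z ⊆ CohB1.genLocus Q (u (ε (ε.symm (Sum.inl x₀))))
    rw [ε.apply_symm_apply, hlocT]
    exact hZ₀
  · show good (CohB1.genLocus Q (u (ε (ε.symm (Sum.inl x₀))))) (t (ε (ε.symm (Sum.inl x₀))) (ε (ε.symm (Sum.inr _))))
    rw [ε.apply_symm_apply, ε.apply_symm_apply]
    let V := CohB1.genLocus Q (u (Sum.inl x₀))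
    have hVU : U x₀ = V := (hlocT x₀).symm
    suffices he : t (Sum.inl x₀) (Sum.inr ⟨x₀, g₀, hg₀S⟩) = X.presheaf.map (homOfLE hVU.ge).op g₀ by
      rw [he]
      exact hcongr _ _ hVU.ge hVU.le g₀ hg₀
    let j : J := ⟨x₀, g₀, hg₀S⟩
    let x := x₀
    let a := g₀
    refine ((gen_genLocus hQ (u (Sum.inl x))) V le_rfl).1 ?_
    simp only [resT, res_res]
    refine (ht (Sum.inl x) (Sum.inr j)).trans ?_
    show resT (sec (tensorS (secHom (CohB1.tensorPow P K) (ξ j)) (s x))) V =
      X.presheaf.map (homOfLE hVU.ge).op a • resT (sec (powS (s x) (K + 1))) V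
    rw [sec_powS, resT, resT, powLoc_res, tensorS]
    have e0 : sec (secHom (tmod (CohB1.tensorPow P K) P)
        (pairS (CohB1.tensorPow P K) P (sec (secHom (CohB1.tensorPow P K) (ξ j))) (sec (s x)))) =
        mulPow (sec (s x)) (ξ j) 1 := by
      rw [sec_secHom, sec_secHom]
      rfl
    refine (congrArg (fun z => (CohB1.tensorPow P (K + 1)).presheaf.map
      (homOfLE (le_top : V ≤ ⊤)).op z) e0).trans ?_
    rw [mulPow_res]
    have e1 := congrArg ((CohB1.tensorPow P K).presheaf.map (homOfLE hVU.ge).op) (hξ j)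
    rw [(CohB1.tensorPow P K).map_smul, powLoc_res, resT, resT, res_res, res_res] at e1
    rw [e1, mulPow_smul, mulPow_powLoc]

end Groth.Agent.AmpleEmb
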