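import Groth.Agent.AmpleEmb.Serre
import Groth.Agent.AssLib.Basic
import Groth.Agent.AssLib.Push
import Groth.Agent.ProperFin.Main
import Groth.Agent.RpushLib.Finite
import Groth.Agent.DevLib.Piece
import Groth.Agent.QCohLib.Coherent
import Groth.Agent.FactorOne.Basic

/-!
# Towers of negative twists
-/

set_option autoImplicit false
set_option backward.isDefEq.respectTransparency false
set_option linter.style.haveILetI false

universe u

open CategoryTheory CategoryTheory.Limits AlgebraicGeometry TopologicalSpace Opposite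
open Groth.Agent.PullbackMod

noncomputable section

namespace Groth.Agent.AssTower

variable {X : Scheme.{u}}

/-- Decreasing twists of a module with multiplication by sections. -/
structure Tow (X : Scheme.{u}) {ι : Type} (U : ι → X.Opens) (t : ∀ i, ι → Γ(X, U i)) where
  /-- The modules. -/
  G : ℕ → X.Modules
  /-- The multiplications. -/
  st : ι → ∀ n, G (n + 1) ⟶ G n
  bij : ∀ i n (x : X), x ∈ U i → Function.Bijective (stalkLin (st i n) x)
  ratio : ∀ i a n (x : X) (hx : x ∈ U i) (z : (G (n + 1)).presheaf.stalk x),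
    stalkLin (st a n) x z = X.presheaf.germ (U i) x hx (t i a) • stalkLin (st i n) x z

/-- A map commutes with multiplication by a global function. -/
theorem mulEnd_comm {M N : X.Modules} (φ : M ⟶ N) (g : Γ(X, ⊤)) :
    φ ≫ FactorOne.mulEnd N g = FactorOne.mulEnd M g ≫ φ := by
  refine Scheme.Modules.hom_ext _ _ fun V => AddCommGrpCat.hom_ext (AddMonoidHom.ext fun m => ?_)
  show (FactorOne.mulEnd N g).app V (φ.app V m) = φ.app V ((FactorOne.mulEnd M g).app V m)
  rw [FactorOne.mulEnd_app, FactorOne.mulEnd_app, Scheme.Modules.Hom.app_smul]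

theorem stalkLin_mulEnd {M : X.Modules} (g : Γ(X, ⊤)) (x : X) (z : M.presheaf.stalk x) :
    stalkLin (FactorOne.mulEnd M g) x z = X.presheaf.germ ⊤ x trivial g • z := by
  obtain ⟨V, hx, m, rfl⟩ := TopCat.Presheaf.exists_germ_eq M.presheaf z
  rw [stalkLin_germ, FactorOne.mulEnd_app, ParaFLib.germ_smul', TopCat.Presheaf.germ_res_apply]

theorem stalkLin_add {M N : X.Modules} (φ ψ : M ⟶ N) (x : X) (z : M.presheaf.stalk x) :
    stalkLin (φ + ψ) x z = stalkLin φ x z + stalkLin ψ x z := by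
  obtain ⟨V, hx, m, rfl⟩ := TopCat.Presheaf.exists_germ_eq M.presheaf z
  rw [stalkLin_germ, stalkLin_germ, stalkLin_germ, ← map_add]
  rfl

namespace Tow

variable {ι : Type} {U : ι → X.Opens} {t : ∀ i, ι → Γ(X, U i)} (T : Tow X U t)

/-- The tower of negative degrees. -/
@[simps] def ofMulData (D : ProjCoh.MulData X ι) : Tow X D.U D.t where
  G n := D.F (-(n : ℤ))
  st a n := eqToHom (congrArg D.F (by push_cast; ring : -((n + 1 : ℕ) : ℤ) = -(n : ℤ) - 1)) ≫ D.μ a (-(n : ℤ))
  bij i n x hx := by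
    rw [stalkLin_comp]
    exact (D.bij i _ x hx).comp ((isIso_iff_stalk _).1 inferInstance x)
  ratio i a n x hx z := by
    rw [stalkLin_comp, stalkLin_comp]
    exact D.ratio i a _ x hx _

theorem app_ratio (i a : ι) (n : ℕ) {V : X.Opens} (hV : V ≤ U i) (m : Γ(T.G (n + 1), V)) :
    (T.st a n).app V m = X.presheaf.map (homOfLE hV).op (t i a) • (T.st i n).app V m :=
  ProjCoh.app_ratio_of_stalk _ _ _ (fun x hx z => T.ratio i a n x hx z) hV m

/-- Multiplication by a power of a section. -/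
def dn (i : ι) (n : ℕ) : ∀ e, T.G (n + e) ⟶ T.G n
  | 0 => 𝟙 _
  | e + 1 => T.st i (n + e) ≫ dn i n e

theorem bij_dn (i : ι) (n : ℕ) {x : X} (hx : x ∈ U i) :
    ∀ e, Function.Bijective (stalkLin (T.dn i n e) x)
  | 0 => by rw [dn, stalkLin_id]; exact Function.bijective_id
  | e + 1 => by rw [dn, stalkLin_comp]; exact (bij_dn i n hx e).comp (T.bij i _ x hx)

/-- Multiplication by a power of a section, down to the bottom. -/
def down (i : ι) : ∀ n, T.G n ⟶ T.G 0
  | 0 => 𝟙 _
  | n + 1 => T.st i n ≫ down i n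

theorem bij_down (i : ι) {x : X} (hx : x ∈ U i) :
    ∀ n, Function.Bijective (stalkLin (T.down i n) x)
  | 0 => by rw [down, stalkLin_id]; exact Function.bijective_id
  | n + 1 => by rw [down, stalkLin_comp]; exact (bij_down i hx n).comp (T.bij i _ x hx)

theorem nonempty_stalk_equiv (hU : ∀ x, ∃ i, x ∈ U i) (n : ℕ) (x : X) :
    Nonempty ((T.G n).presheaf.stalk x ≃ₗ[X.presheaf.stalk x] (T.G 0).presheaf.stalk x) := by
  obtain ⟨i, hi⟩ := hU x
  exact ⟨LinearEquiv.ofBijective _ (T.bij_down i hi n)⟩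

/-- Multiplications commute. -/
theorem comm (hU : ∀ x, ∃ i, x ∈ U i) (a b : ι) (n : ℕ) :
    T.st a (n + 1) ≫ T.st b n = T.st b (n + 1) ≫ T.st a n := by
  refine hom_ext_stalk fun x => LinearMap.ext fun z => ?_
  obtain ⟨i, hi⟩ := hU x
  rw [stalkLin_comp, stalkLin_comp, LinearMap.comp_apply, LinearMap.comp_apply, T.ratio i b n x hi,
    T.ratio i a (n + 1) x hi, T.ratio i a n x hi, T.ratio i b (n + 1) x hi, map_smul, map_smul, smul_comm]

/-- A transition between the sources of the maps to consecutive levels. -/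
def shift (a : ι) (n e : ℕ) : T.G (n + 1 + e) ⟶ T.G (n + e) :=
  eqToHom (congrArg T.G (Nat.add_right_comm n 1 e)) ≫ T.st a (n + e)

theorem shift_zero (a : ι) (n : ℕ) : T.shift a n 0 = T.st a n := Category.id_comp _

theorem eqToHom_st (b : ι) {m m' : ℕ} (h : m = m') (h1 : T.G (m + 1) = T.G (m' + 1)) (h2 : T.G m = T.G m') :
    eqToHom h1 ≫ T.st b m' = T.st b m ≫ eqToHom h2 := by
  subst h
  simp

theorem shift_st (hU : ∀ x, ∃ i, x ∈ U i) (a b : ι) (n e : ℕ) :
    T.shift a n (e + 1) ≫ T.st b (n + e) = T.st b (n + 1 + e) ≫ T.shift a n e := by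
  rw [shift, shift, Category.assoc, show T.st a (n + (e + 1)) ≫ T.st b (n + e) = _ from T.comm hU a b (n + e),
    ← Category.assoc, ← Category.assoc]
  congr 1
  exact T.eqToHom_st b (Nat.add_right_comm n 1 e) _ _

theorem dn_comm (hU : ∀ x, ∃ i, x ∈ U i) (i a : ι) (n : ℕ) :
    ∀ e, T.shift a n e ≫ T.dn i n e = T.dn i (n + 1) e ≫ T.st a n
  | 0 => by rw [shift_zero, dn, dn, Category.comp_id, Category.id_comp]
  | e + 1 => by
    rw [dn, dn, ← Category.assoc, T.shift_st hU, Category.assoc, dn_comm hU i a n e, Category.assoc]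

/-- A monic polynomial in the ratio of two multiplications. -/
def poly {k : Type u} [CommRing k] (φ : k →+* Γ(X, ⊤)) (i a : ι) :
    ∀ (l : List k) (n : ℕ), T.G (n + l.length) ⟶ T.G n
  | [], _ => 𝟙 _
  | c :: l, n => T.st a (n + l.length) ≫ poly φ i a l n +
      T.dn i n (l.length + 1) ≫ FactorOne.mulEnd (T.G n) (φ c)

theorem poly_comm {k : Type u} [CommRing k] (φ : k →+* Γ(X, ⊤)) (hU : ∀ x, ∃ i, x ∈ U i) (i a b : ι) :
    ∀ (l : List k) (n : ℕ), T.shift b n l.length ≫ T.poly φ i a l n = T.poly φ i a l (n + 1) ≫ T.st b n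
  | [], n => by
    show T.shift b n 0 ≫ 𝟙 _ = 𝟙 _ ≫ _
    rw [shift_zero, Category.comp_id, Category.id_comp]
  | c :: l, n => by
    show T.shift b n (l.length + 1) ≫ (T.st a (n + l.length) ≫ T.poly φ i a l n +
      T.dn i n (l.length + 1) ≫ FactorOne.mulEnd (T.G n) (φ c)) = (T.st a (n + 1 + l.length) ≫ T.poly φ i a l (n + 1) +
      T.dn i (n + 1) (l.length + 1) ≫ FactorOne.mulEnd (T.G (n + 1)) (φ c)) ≫ T.st b n
    rw [Preadditive.comp_add, Preadditive.add_comp, Category.assoc, Category.assoc, ← mulEnd_comm]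
    congr 1
    · rw [← Category.assoc, T.shift_st hU, Category.assoc, poly_comm φ hU i a b l n]
    · rw [← Category.assoc, T.dn_comm hU, Category.assoc]

/-- The monic polynomial of a list. -/
def qL {k : Type u} [CommRing k] : List k → Polynomial k
  | [] => 1
  | c :: l => Polynomial.X * qL l + Polynomial.C c

theorem qL_monic {k : Type u} [CommRing k] [Nontrivial k] :
    ∀ l : List k, (qL l).Monic ∧ (qL l).natDegree = l.length
  | [] => ⟨Polynomial.monic_one, Polynomial.natDegree_one⟩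
  | c :: l => by
    obtain ⟨h1, h2⟩ := qL_monic l
    have hm : (Polynomial.X * qL l).Monic := Polynomial.monic_X.mul h1
    have hd : (Polynomial.X * qL l).natDegree = l.length + 1 := by
      rw [Polynomial.natDegree_X_mul h1.ne_zero, h2]
    refine ⟨hm.add_of_left ?_, ?_⟩
    · rw [Polynomial.degree_eq_natDegree hm.ne_zero, hd]
      exact Polynomial.degree_C_le.trans_lt (WithBot.coe_lt_coe.2 l.length.succ_pos)
    · rw [qL, Polynomial.natDegree_add_C, hd]
      rfl

theorem exists_list {k : Type u} [CommRing k] [Nontrivial k] :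
    ∀ (d : ℕ) (q : Polynomial k), q.Monic → q.natDegree = d → ∃ l, qL l = q := by
  intro d
  induction d with
  | zero => exact fun q hq hd => ⟨[], (hq.natDegree_eq_zero.1 hd).symm⟩
  | succ d ih =>
    intro q hq hd
    have hm : q.divX.Monic := by
      show q.divX.leadingCoeff = 1
      rw [Polynomial.leadingCoeff, Polynomial.natDegree_divX_eq_natDegree_tsub_one, Polynomial.coeff_divX, hd]
      show q.coeff (d + 1) = 1
      rw [← hd]
      exact hq
    obtain ⟨l, hl⟩ := ih q.divX hm (by rw [Polynomial.natDegree_divX_eq_natDegree_tsub_one, hd]; rfl)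
    exact ⟨q.coeff 0 :: l, by rw [qL, hl, Polynomial.X_mul_divX_add]⟩

theorem stalkLin_poly {k : Type u} [CommRing k] (φ : k →+* Γ(X, ⊤)) (i a : ι) {x : X} (hx : x ∈ U i) :
    ∀ (l : List k) (n : ℕ) (z : (T.G (n + l.length)).presheaf.stalk x),
      stalkLin (T.poly φ i a l n) x z =
        X.presheaf.germ (U i) x hx ((qL l).eval₂ (AmpleEmb.constV φ (U i)) (t i a)) •
          stalkLin (T.dn i n l.length) x z
  | [], n, z => by
    rw [qL, Polynomial.eval₂_one, map_one, one_smul]
    rfl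
  | c :: l, n, z => by
    show stalkLin (T.st a (n + l.length) ≫ T.poly φ i a l n +
      T.dn i n (l.length + 1) ≫ FactorOne.mulEnd (T.G n) (φ c)) x z = _ • stalkLin (T.dn i n (l.length + 1)) x z
    rw [stalkLin_add, stalkLin_comp, stalkLin_comp, LinearMap.comp_apply, LinearMap.comp_apply,
      stalkLin_poly φ i a hx l n, stalkLin_mulEnd, dn, stalkLin_comp, LinearMap.comp_apply]
    erw [T.ratio i a _ x hx z]
    rw [map_smul, smul_smul]
    refine (add_smul _ _ _).symm.trans ?_
    show _ • stalkLin (T.dn i n l.length) x (stalkLin (T.st i (n + l.length)) x z) = _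
    refine congrArg (· • stalkLin (T.dn i n l.length) x (stalkLin (T.st i (n + l.length)) x z)) ?_
    rw [qL, Polynomial.eval₂_add, Polynomial.eval₂_mul, Polynomial.eval₂_X, Polynomial.eval₂_C,
      map_add, map_mul, mul_comm (X.presheaf.germ (U i) x hx (t i a))]
    exact congrArg _ (TopCat.Presheaf.germ_res_apply _ _ _ _ _).symm

/-- The tower of cokernels of compatible maps. -/
def coker (H : ℕ → X.Modules) (φ : ∀ n, H n ⟶ T.G n) (α : ι → ∀ n, H (n + 1) ⟶ H n)
    (w : ∀ a n, α a n ≫ φ n = φ (n + 1) ≫ T.st a n) [∀ n, Mono (φ n)]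
    (hα : ∀ i n (x : X), x ∈ U i → Function.Surjective (stalkLin (α i n) x)) : Tow X U t where
  G n := cokernel (φ n)
  st a n := cokernel.map (φ (n + 1)) (φ n) (α a n) (T.st a n) (w a n).symm
  bij i n x hx := by
    have hsq : ∀ y, stalkLin (cokernel.map (φ (n + 1)) (φ n) (α i n) (T.st i n) (w i n).symm) x
        (stalkLin (cokernel.π (φ (n + 1))) x y) = stalkLin (cokernel.π (φ n)) x (stalkLin (T.st i n) x y) := fun y => by
      rw [← LinearMap.comp_apply, ← stalkLin_comp, cokernel.π_desc, stalkLin_comp, LinearMap.comp_apply]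
    constructor
    · refine (injective_iff_map_eq_zero _).2 fun z hz => ?_
      obtain ⟨y, rfl⟩ := DevLib.coker_surjective (φ (n + 1)) x z
      rw [hsq] at hz
      obtain ⟨v, hv⟩ := (DevLib.coker_exact (φ n) x _).1 hz
      obtain ⟨v', rfl⟩ := hα i n x hx v
      refine (DevLib.coker_exact (φ (n + 1)) x _).2 ⟨v', (T.bij i n x hx).1 (Eq.trans ?_ hv)⟩
      rw [← LinearMap.comp_apply, ← stalkLin_comp, ← w, stalkLin_comp, LinearMap.comp_apply]
    · intro z
      obtain ⟨y, rfl⟩ := DevLib.coker_surjective (φ n) x z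
      obtain ⟨y', rfl⟩ := (T.bij i n x hx).2 y
      exact ⟨_, hsq y'⟩
  ratio i a n x hx z := by
    have hsq : ∀ b y, stalkLin (cokernel.map (φ (n + 1)) (φ n) (α b n) (T.st b n) (w b n).symm) x
        (stalkLin (cokernel.π (φ (n + 1))) x y) = stalkLin (cokernel.π (φ n)) x (stalkLin (T.st b n) x y) := fun b y => by
      rw [← LinearMap.comp_apply, ← stalkLin_comp, cokernel.π_desc, stalkLin_comp, LinearMap.comp_apply]
    obtain ⟨y, rfl⟩ := DevLib.coker_surjective (φ (n + 1)) x z
    rw [hsq, hsq, T.ratio i a n x hx, map_smul]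

end Tow

/-- A finite-dimensional stable set of sections of a module without closed associated points vanishes. -/
theorem eq_bot_of_stable {k : Type u} [Field k] (φ : k →+* Γ(X, ⊤)) [JacobsonSpace X] [IsLocallyNoetherian X]
    {G : X.Modules} [Coh.IsQCoh G] (hass : ∀ x : X, IsClosed ({x} : Set X) → ¬ Curv2.IsAssPoint G x)
    {U : X.Opens} (hU : IsAffineOpen U) (V : Submodule Γ(X, U) Γ(G, U))
    (hfin : letI := Module.compHom Γ(G, U) (AmpleEmb.constV φ U);
      ∃ W : Submodule k Γ(G, U), Module.Finite k W ∧ (W : Set Γ(G, U)) = V) : V = ⊥ := by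
  by_contra hV
  letI := (AmpleEmb.constV φ U).toAlgebra
  letI := Module.compHom Γ(G, U) (AmpleEmb.constV φ U)
  haveI : IsScalarTower k Γ(X, U) Γ(G, U) := IsScalarTower.of_algebraMap_smul fun _ _ => rfl
  obtain ⟨W, hW, hWV⟩ := hfin
  haveI : IsNoetherianRing Γ(X, U) := IsLocallyNoetherian.component_noetherian ⟨U, hU⟩
  haveI : Nontrivial V := Submodule.nontrivial_iff_ne_bot.2 hV
  obtain ⟨q, hq⟩ := associatedPrimes.nonempty Γ(X, U) V
  obtain ⟨hqp, f, hf⟩ := (isAssociatedPrime_iff_exists_injective_linearMap q V).1 hq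
  haveI := hqp
  let g : (Γ(X, U) ⧸ q) →ₗ[k] W :=
    LinearMap.codRestrict W ((V.subtype ∘ₗ f).restrictScalars k)
      fun z => show ((f z).1 : Γ(G, U)) ∈ (W : Set Γ(G, U)) from hWV.symm ▸ (f z).2
  have hg : Function.Injective g := fun a b h =>
    hf (Subtype.ext (congrArg (fun w : W => (w : Γ(G, U))) h))
  haveI : FiniteDimensional k (Γ(X, U) ⧸ q) := Module.Finite.of_injective g hg
  haveI : IsArtinianRing (Γ(X, U) ⧸ q) := isArtinian_of_tower k inferInstance
  have hmax : q.IsMaximal := Ideal.Quotient.maximal_of_isField q (IsArtinianRing.isField_of_isDomain _)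
  have hq' : IsAssociatedPrime q Γ(G, U) := IsAssociatedPrime.map_of_injective V.subtype hq V.injective_subtype
  refine hass (AssLib.pt hU ⟨q, hqp⟩) ?_ (AssLib.isAssPoint_of_mem hU (AssLib.pt_mem hU ⟨q, hqp⟩) ?_)
  · have h1 : (⟨q, hqp⟩ : PrimeSpectrum Γ(X, U)) ∈ closedPoints (PrimeSpectrum Γ(X, U)) :=
      (PrimeSpectrum.isClosed_singleton_iff_isMaximal _).2 hmax
    exact (hU.fromSpec.isOpenEmbedding.preimage_closedPoints.ge h1 :)
  · rw [AssLib.pr_pt]
    exact hq'

/-- Sections high in a tower vanish when the bottom has no closed associated point. -/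
theorem Tow.exists_vanish {k : Type u} [Field k] (f : X ⟶ Spec (CommRingCat.of k)) [IsProper f]
    {ι : Type} [Fintype ι] {U : ι → X.Opens} {t : ∀ i, ι → Γ(X, U i)} (T : Tow X U t)
    (hcoh : ∀ n, Coh.IsCoh (T.G n)) (S : Set ι) (hS : ∀ i ∈ S, IsAffineOpen (U i))
    (hcover : ∀ x, ∃ i ∈ S, x ∈ U i)
    (hgen : ∀ i ∈ S, Function.Surjective
      (MvPolynomial.eval₂Hom (AmpleEmb.constV (Coh.toGlobal f) (U i)) (t i)))
    (hass : ∀ x : X, IsClosed ({x} : Set X) → ¬ Curv2.IsAssPoint (T.G 0) x) :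
    ∃ n₀ : ℕ, ∀ n : ℕ, n₀ ≤ n → Subsingleton (Coh.HH X (T.G n) 0) := by
  classical
  haveI : IsLocallyNoetherian X := LocallyOfFiniteType.isLocallyNoetherian f
  haveI : JacobsonSpace X := LocallyOfFiniteType.jacobsonSpace f
  haveI : CompactSpace X := QuasiCompact.compactSpace_of_compactSpace f
  haveI : IsNoetherian X := { }
  haveI := (hcoh 0).1
  let ψ : k →+* Γ(X, ⊤) := Coh.toGlobal f
  letI modΓ : ∀ n, Module k Γ(T.G n, ⊤) := fun n => Module.compHom _ ψ
  haveI finΓ : ∀ n, Module.Finite k Γ(T.G n, ⊤) := fun n => by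
    letI := Module.compHom (Coh.HH X (T.G n) 0) (Coh.toGlobal f)
    haveI := ProperFin.allFin_of_isCoh f (T.G n) (hcoh n) 0
    let l : Γ(T.G n, ⊤) →ₗ[k] Coh.HH X (T.G n) 0 :=
      { toFun := RpushLib.h0Γ _
        map_add' := map_add _
        map_smul' := fun c z => RpushLib.h0Γ_smul _ (ψ c) z }
    exact Module.Finite.of_injective l (RpushLib.h0Γ _).injective
  have hi : ∀ i ∈ S, ∃ n₀ : ℕ, ∀ n, n₀ ≤ n → ∀ σ : Γ(T.G n, ⊤),
      (T.G n).presheaf.map (homOfLE (le_top : U i ≤ ⊤)).op σ = 0 := by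
    intro i hiG
    letI := Module.compHom Γ(T.G 0, U i) (AmpleEmb.constV ψ (U i))
    let im : ∀ n, Γ(T.G n, ⊤) →ₗ[k] Γ(T.G 0, U i) := fun n =>
      { toFun := fun σ => (T.down i n).app (U i) ((T.G n).presheaf.map (homOfLE le_top).op σ)
        map_add' := fun a b => by rw [map_add, map_add]
        map_smul' := fun c a => by
          show (T.down i n).app (U i) ((T.G n).presheaf.map _ (ψ c • a)) = AmpleEmb.constV ψ (U i) c • _
          rw [(T.G n).map_smul, Scheme.Modules.Hom.app_smul]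
          rfl }
    let W : ℕ → Submodule k Γ(T.G 0, U i) := fun n => LinearMap.range (im n)
    have hnat : ∀ (a : ι) n (σ : Γ(T.G (n + 1), ⊤)),
        (T.G n).presheaf.map (homOfLE (le_top : U i ≤ ⊤)).op ((T.st a n).app ⊤ σ) =
          (T.st a n).app (U i) ((T.G (n + 1)).presheaf.map (homOfLE le_top).op σ) := fun a n σ =>
      (NatTrans.naturality_apply (T.st a n).mapPresheaf (homOfLE (le_top : U i ≤ ⊤)).op σ).symm
    have hdec : ∀ n, W (n + 1) ≤ W n := by
      rintro n _ ⟨σ, rfl⟩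
      exact ⟨(T.st i n).app ⊤ σ, congrArg ((T.down i n).app (U i)) (hnat i n σ)⟩
    have hmul : ∀ n a, ∀ x ∈ W (n + 1), t i a • x ∈ W n := by
      rintro n a _ ⟨σ, rfl⟩
      refine ⟨(T.st a n).app ⊤ σ, ?_⟩
      show (T.down i n).app (U i) _ = t i a • (T.down i (n + 1)).app (U i) _
      rw [hnat, T.app_ratio i a n (le_refl (U i)), Scheme.Modules.Hom.app_smul]
      congr 1
      exact ConcreteCategory.congr_hom (X.presheaf.map_id _) (t i a)
    haveI : ∀ n, Module.Finite k (W n) := fun n => Module.Finite.range _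
    obtain ⟨n₀, hn₀⟩ : ∃ n₀, ∀ n, n₀ ≤ n → W n = W n₀ := by
      refine ⟨Function.argmin (fun n => Module.finrank k (W n)), fun n hn => ?_⟩
      exact Submodule.eq_of_le_of_finrank_le (antitone_nat_of_succ_le hdec hn)
        (Function.argmin_le (fun n => Module.finrank k (W n)) n)
    have hstab : ∀ r : Γ(X, U i), ∀ x ∈ W n₀, r • x ∈ W n₀ := by
      intro r
      obtain ⟨p, rfl⟩ := hgen i hiG r
      induction p using MvPolynomial.induction_on with
      | C c =>
        intro x hx
        rw [MvPolynomial.eval₂Hom_C]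
        exact (W n₀).smul_mem c hx
      | add p p' hp hp' => intro x hx; rw [map_add, add_smul]; exact add_mem (hp x hx) (hp' x hx)
      | mul_X p a hp =>
        intro x hx
        rw [map_mul, MvPolynomial.eval₂Hom_X', mul_smul]
        exact hp _ (hmul n₀ a x (by rw [hn₀ (n₀ + 1) (Nat.le_succ _)]; exact hx))
    let V : Submodule Γ(X, U i) Γ(T.G 0, U i) :=
      { carrier := W n₀
        add_mem' := fun ha hb => add_mem ha hb
        zero_mem' := (W n₀).zero_mem
        smul_mem' := fun r x hx => hstab r x hx }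
    have hV : V = ⊥ := eq_bot_of_stable ψ hass (hS i hiG) V ⟨W n₀, inferInstance, rfl⟩
    refine ⟨n₀, fun n hn σ => ?_⟩
    have h0 : im n σ ∈ V := show im n σ ∈ W n₀ from hn₀ n hn ▸ ⟨σ, rfl⟩
    rw [hV, Submodule.mem_bot] at h0
    exact (ProjCoh.app_bijective_of_stalk (T.down i n) (fun x hx => T.bij_down i hx n)
      (le_refl (U i))).1 (h0.trans (map_zero _).symm)
  choose! n₀ hn₀ using hi
  refine ⟨Finset.univ.sup n₀, fun n hn => (RpushLib.h0Γ _).toEquiv.symm.subsingleton_congr.2 ⟨fun a b => ?_⟩⟩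
  rw [← sub_eq_zero]
  refine AssLib.eq_zero_of_germ _ _ fun x hx => ?_
  obtain ⟨i, hiG, hxi⟩ := hcover x
  rw [← TopCat.Presheaf.germ_res_apply (T.G n).presheaf (homOfLE (le_top : _ ≤ ⊤)) x hxi,
    hn₀ i hiG n ((Finset.le_sup (Finset.mem_univ i)).trans hn) (a - b), map_zero]

end Groth.Agent.AssTower
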